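import Groth.Agent.Lib.FpqcFun14.Stalk
import Groth.Agent.Lib.AlgSpRel14.RelDim
import Groth.Agent.Lib.FibDim14.BaseChange

/-!
# Flatness in dimensions at least `n` along base change
-/

set_option autoImplicit false
set_option linter.style.haveILetI false
set_option backward.isDefEq.respectTransparency false

universe u

open CategoryTheory CategoryTheory.Limits AlgebraicGeometry Opposite

namespace Groth.Agent.FpqcFun4

theorem trdeg_lt_iff {X S : Scheme.{u}} (f : X ⟶ S) [LocallyOfFiniteType f] (n : ℕ) (x : X) :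
    (letI := (f.residueFieldMap x).hom.toAlgebra;
      Algebra.trdeg (S.residueField (f x)) (X.residueField x) < (n : Cardinal.{u})) ↔ FibDim14.rd f x < n := by
  show Dual3.resTrdeg f x < (n : Cardinal.{u}) ↔ _
  rw [show Dual3.resTrdeg f x = FibDim14.rdeg f x from rfl, FibDim14.rdeg_eq_rd]
  exact_mod_cast Iff.rfl

variable {X S : Scheme.{u}} (f : X ⟶ S) [LocallyOfFiniteType f] (F : X.Modules) [Coh.IsQCoh F] (n : ℕ)

/-- The condition. -/
def P (T : Over S) : Prop :=
  FlatFun.DimFibresLT n (PicF.XTproj f T) {x | ¬ FlatMod.IsFlatOverAt (PicF.XTproj f T) (FGA.ET f F T) x}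

theorem P_of_hom ⦃T T₀ : Over S⦄ (k : T ⟶ T₀) (h : P f F n T₀) : P f F n T := by
  intro z hz
  haveI : LocallyOfFiniteType (PicF.XTproj f T) := MorphismProperty.pullback_snd _ _ inferInstance
  haveI : LocallyOfFiniteType (PicF.XTproj f T₀) := MorphismProperty.pullback_snd _ _ inferInstance
  haveI : Coh.IsQCoh (FGA.ET f F T₀) := M1.isQCoh_pullback _ inferInstance
  have hz0 : ¬ FlatMod.IsFlatOverAt (PicF.XTproj f T₀) (FGA.ET f F T₀) (PicF.XTmap f k z) := fun hfl => hz
    (SchDom.isFlatOverAt_of_iso _ (FpqcFun14.ETIso f F k) z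
      (FlatH4.isFlatOverAt_baseChange (HilbBC25.isPullback_XTmap f k) _ z hfl))
  have h1 := (trdeg_lt_iff (PicF.XTproj f T₀) n _).1 (h _ hz0)
  exact (trdeg_lt_iff (PicF.XTproj f T) n z).2 (lt_of_le_of_lt (FibDim14.rd_baseChange_le (HilbBC25.isPullback_XTmap f k) z) h1)

theorem P_of_cover (T : Over S) (h : ∀ t : T.left, ∃ (T' : Over S) (k : T' ⟶ T),
    Flat k.left ∧ t ∈ Set.range k.left ∧ P f F n T') : P f F n T := by
  intro x hx
  haveI : LocallyOfFiniteType (PicF.XTproj f T) := MorphismProperty.pullback_snd _ _ inferInstance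
  obtain ⟨T', k, hk, ⟨t', ht⟩, hP⟩ := h (PicF.XTproj f T x)
  haveI : LocallyOfFiniteType (PicF.XTproj f T') := MorphismProperty.pullback_snd _ _ inferInstance
  obtain ⟨z, hzx, -, hzr⟩ := FibDim14.exists_over_rd_eq (HilbBC25.isPullback_XTmap f k) x t' ht.symm
  subst hzx
  have hz : ¬ FlatMod.IsFlatOverAt (PicF.XTproj f T') (FGA.ET f F T') z := fun hfl => hx
    (FlatH4.isFlatOverAt_of_baseChange_of_flat (HilbBC25.isPullback_XTmap f k) _ z (Flat.stalkMap k.left _)
      (SchDom.isFlatOverAt_of_iso _ (FpqcFun14.ETIso f F k).symm z hfl))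
  exact (trdeg_lt_iff (PicF.XTproj f T) n _).2 (hzr ▸ (trdeg_lt_iff (PicF.XTproj f T') n z).1 (hP z hz))

end Groth.Agent.FpqcFun4
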